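import Cfsg.Agent.Ree.Unip
/-!
Fixed points of the exceptional isogeny of `G₂`: the torus `hh`, the homomorphism `LL` from `SL₂`, the Bruhat
decomposition `fix_bruhat`, and generation by the words (`mem_of_fix`).
-/

set_option autoImplicit false

namespace Cfsg.Agent.Ree

open Chev Cfsg.Lie Subgroup _root_.Cfsg.Agent.Classical
open scoped MatrixGroups Matrix

/-- The first node. -/
def s0 : Sm chevG2 := ⟨0, by decide⟩
/-- The second node. -/
def s1 : Sm chevG2 := ⟨1, by decide⟩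

theorem eq_of_mem_W1 {w : WG chevG2} (h : symG2.cj w = w) : w = 1 ∨ w = w0 Set.univ := by
  refine or_iff_not_imp_left.2 fun h1 => eq_w0 (WJ_univ (D := chevG2) ▸ mem_top _) fun j _ => ?_
  obtain ⟨i, hi⟩ := exists_not_pos h1
  rcases (by decide +kernel : ∀ i j : Sm chevG2, j = i ∨ j = symG2.π i) i j with rfl | rfl
  · exact hi
  · rwa [← symG2.ρ_sm, symG2.smul_ρ h, Sym.pos_ρ]

variable {K G : Type*} [Field K] [Group G] {X : Sys chevG2 K G} (m : X.Mult) (φ : K →+* K)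

/-- The field automorphism on units. -/
abbrev φu : Kˣ →* Kˣ := Units.map (φ : K →* K)

/-- A pair of units as a function on the nodes. -/
def pr (a b : Kˣ) : Sm chevG2 → Kˣ := fun i => if i = s0 then a else b

theorem chi_pr (a b : Kˣ) (r : Fin 12) (i j : ℤ) (h : car s0 (rr r) = i ∧ car s1 (rr r) = j := by decide) :
    chi (pr a b) (rr r) = a ^ i * b ^ j := by
  rw [← h.1, ← h.2]; exact Fin.prod_univ_two _

theorem tor_pr (a b : Kˣ) : m.tor (pr a b) = X.h (rr 7) a * X.h (rr 6) b := by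
  rw [m.tor_eq_prod]; exact congrArg _ (mul_one _)

theorem eq_pr (c : Sm chevG2 → Kˣ) : c = pr (c s0) (c s1) := by
  funext i; rcases (by decide : ∀ i : Sm chevG2, i = s0 ∨ i = s1) i with rfl | rfl <;> rfl

theorem h_eq_pr (a : Kˣ) (r : Fin 12) (i j : ℤ) (h : cov (rr r) s0 = i ∧ cov (rr r) s1 = j := by decide) :
    X.h (rr r) a = m.tor (pr (a ^ i) (a ^ j)) := by
  rw [m.h_eq_tor, eq_pr (fun _ => _), h.1, h.2]

theorem pr_mul (a b c d : Kˣ) : pr a b * pr c d = pr (a * c) (b * d) := eq_pr _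

theorem tor_injective (C : X.Cover) : Function.Injective m.tor := (injective_iff_map_eq_one _).2 fun a ha => by
  have := (m.π_tor_eq_one C).1 (by rw [ha, map_one])
  rwa [zkerG2_eq_bot, mem_bot] at this

/-- The split torus of the Ree group. -/
def hh : Kˣ →* G := m.tor.comp (MonoidHom.mk' (fun y => pr (φu φ y) y) fun a b => by rw [pr_mul, map_mul])

theorem hh_apply (y : Kˣ) : hh m φ y = m.tor (pr (φu φ y) y) := rfl

theorem hh_mem_H (y : Kˣ) : hh m φ y ∈ X.H := m.tor_mem_H (pr (φu φ y) y)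

theorem hh_injective (C : X.Cover) : Function.Injective (hh m φ) := fun a b e =>
  congrFun (tor_injective m C (a₁ := pr (φu φ a) a) (a₂ := pr (φu φ b) b) e) s1

variable {φ} in
theorem fix_of_conj (C : X.Cover) (hφ : ∀ t, φ (φ t) ^ 3 = t) {y : Kˣ} {t u v : K}
    (h : hh m φ y * wd X φ t u v = wd X φ t u v * hh m φ y) : (y ≠ 1 → t = 0 ∧ v = 0) ∧ (y ^ 2 ≠ 1 → u = 0) := by
  have hφ' : φu φ (φu φ y) ^ 3 = y := Units.ext (hφ y)
  rw [← mul_inv_eq_iff_eq_mul, hh_apply, wd, conj_P6] at h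
  obtain ⟨-, h1, -, -, h2, h3⟩ := P6_inj C h
  have key : ∀ (c : Kˣ) (s : K), c * s = s → c ≠ 1 → s = 0 := fun c s e h => by_contra fun hs =>
    h (Units.val_eq_one.1 ((mul_eq_right₀ hs).1 e))
  rw [chi_pr _ _ 6 (-3) 2] at h1
  rw [chi_pr _ _ 10 3 (-1)] at h2
  rw [chi_pr _ _ 11 0 1] at h3
  refine ⟨fun h => ⟨key _ _ h1 fun e => h ?_, key _ _ h3 (by simpa using h)⟩, fun h => key _ _ h2 fun e => h ?_⟩
  · rw [zpow_neg, inv_mul_eq_one, zpow_ofNat, zpow_ofNat] at e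
    have e' := congrArg (φu φ) e
    rw [map_pow, map_pow, hφ'] at e'
    generalize φu φ y = A at e e'
    rw [e', ← pow_mul, show 2 * 2 = 3 + 1 from rfl, pow_succ A 3, left_eq_mul] at e
    rw [e', e, one_pow]
  · rw [zpow_neg_one, mul_inv_eq_one, zpow_ofNat] at e
    have e' := congrArg (φu φ) e
    rw [map_pow, hφ'] at e'
    rwa [← e', pow_succ, mul_eq_right] at e

variable [CharP K 3]

theorem comm_SL2 (g g' : SL(2, K)) : Commute (sysSL2 m (rr 8) g) (sysSL2 m (rr 10) g') := by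
  have : ∀ y, (∀ t, Commute (X.x (rr 10) t) y) → (∀ t, Commute (X.x (rr 1) t) y) → Commute y (sysSL2 m (rr 10) g') :=
    fun y h1 h2 => (mem_centralizer_singleton_iff.1 (sysSL2_mem m _ (M := centralizer {y})
      (fun t => mem_centralizer_singleton_iff.2 (h1 t)) (fun t => mem_centralizer_singleton_iff.2 (h2 t)) g')).symm
  exact mem_centralizer_singleton_iff.1 (sysSL2_mem m _ (M := centralizer {_}) (fun t => mem_centralizer_singleton_iff.2
    (this _ (fun _ => comm3 X 10 8 _ _) fun _ => comm3 X 1 8 _ _)) (fun t => mem_centralizer_singleton_iff.2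
    (this _ (fun _ => comm3 X 10 3 _ _) fun _ => comm3 X 1 3 _ _)) g)

/-- The component of the involution centraliser. -/
noncomputable def LL : SL(2, K) →* G :=
  MonoidHom.mk' (fun g => sysSL2 m (rr 8) (Matrix.SpecialLinearGroup.map φ g) * sysSL2 m (rr 10) g) fun a b => by
    simp only [map_mul, mul_assoc, (comm_SL2 m _ a).left_comm]

theorem LL_apply (g : SL(2, K)) :
    LL m φ g = sysSL2 m (rr 8) (Matrix.SpecialLinearGroup.map φ g) * sysSL2 m (rr 10) g := rfl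

theorem LL_u (t : K) : LL m φ (uSL t) = wd X φ 0 t 0 := by
  rw [LL_apply, show Matrix.SpecialLinearGroup.map φ (uSL t) = uSL (φ t) by ext i j; fin_cases i <;> fin_cases j <;> simp,
    sysSL2_u, sysSL2_u]
  simp [wd, P6]

theorem LL_l (t : K) : LL m φ (lSL t) = wd (negS X) φ 0 (-t) 0 := by
  rw [LL_apply, show Matrix.SpecialLinearGroup.map φ (lSL t) = lSL (φ t) by ext i j; fin_cases i <;> fin_cases j <;> simp,
    sysSL2_l, sysSL2_l]
  simp [wd, P6, negS_x]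

theorem LL_w : LL m φ wSL = X.n (rr 8) (-1) * X.n (rr 10) (-1) := by
  rw [LL_apply, show Matrix.SpecialLinearGroup.map φ wSL = wSL by ext i j; fin_cases i <;> fin_cases j <;> simp,
    sysSL2_w, sysSL2_w]

theorem LL_mem {M : Subgroup G} (h1 : ∀ t u v, wd X φ t u v ∈ M) (h2 : ∀ t u v, wd (negS X) φ t u v ∈ M) (g : SL(2, K)) :
    LL m φ g ∈ M :=
  (sl_eq_top_of_uSL_lSL (H := M.comap (LL m φ)) (fun t => by rw [mem_comap, LL_u]; exact h1 _ _ _)
    (fun t => by rw [mem_comap, LL_l]; exact h2 _ _ _) ▸ mem_top g : g ∈ M.comap (LL m φ))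

theorem LL_comm (g : SL(2, K)) : LL m φ g * hh m φ (-1) = hh m φ (-1) * LL m φ g := by
  have : ∀ (r : Fin 12) t, Even (car s0 (rr r) + car s1 (rr r)) → X.x (rr r) t ∈ centralizer {hh m φ (-1)} := fun r t h => by
    rw [mem_centralizer_singleton_iff, eq_comm, ← mul_inv_eq_iff_eq_mul, hh_apply, m.tor_conj, chi_pr _ _ r _ _ ⟨rfl, rfl⟩,
      show φu φ (-1) = -1 from Units.ext (by simp), ← zpow_add, h.neg_one_zpow, Units.val_one, one_mul]
  exact mem_centralizer_singleton_iff.1 (mul_mem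
    (sysSL2_mem m _ (fun t => this 8 t (by decide)) (fun t => this 3 t (by decide)) _)
    (sysSL2_mem m _ (fun t => this 10 t (by decide)) (fun t => this 1 t (by decide)) _))

theorem w_mem_N : LL m φ wSL ∈ X.N := LL_w m φ ▸ mul_mem (X.n_mem_N _ (by simp)) (X.n_mem_N _ (by simp))

theorem mon_w : X.Mon (LL m φ wSL) (w0 Set.univ) := by
  have : rW (rr 8) * rW (rr 10) = w0 Set.univ := eq_w0 (WJ_univ (D := chevG2) ▸ mem_top _) fun j _ => by
    rw [show (rW (rr 8) * rW (rr 10)) • sm j = ng (sm j) from rtv_injective (by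
      rw [mul_smul, rW_smul, rW_smul, rtv_refl, A_refl_right, rtv_refl, rtv_ng]; revert j; decide +kernel)]
    exact not_pos_ng_sm j
  exact LL_w m φ ▸ this ▸ (X.mon_n _ (by simp)).mul (X.mon_n _ (by simp))

theorem not_pos_w0_iff {r : Rt chevG2} : ¬ Pos (w0 (D := chevG2) Set.univ • r) ↔ Pos r :=
  ⟨fun h => by_contra fun h' => not_pos_w0 (J := Set.univ) (pos_ng_iff.2 h') (fun _ h => absurd trivial h)
    (by rwa [smul_ng, pos_ng_iff]), fun h => not_pos_w0 h fun _ h => absurd trivial h⟩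

theorem w_conj_mem {u : G} (hu : u ∈ X.UP) : LL m φ wSL * u * (LL m φ wSL)⁻¹ ∈ X.UN :=
  (mon_w m φ).conj_mem_U (fun _ => not_pos_w0_iff.2) hu

theorem w_conj_mem' {u : G} (hu : u ∈ X.UN) : (LL m φ wSL)⁻¹ * u * LL m φ wSL ∈ X.UP := by
  simpa using (mon_w m φ).inv.conj_mem_U (T := {r | Pos r}) (fun r hr => by
    rw [w0_inv]; exact by_contra fun h => hr (not_pos_w0_iff.1 h)) hu

variable {φ} (hφ : ∀ t, φ (φ t) ^ 3 = t)
include hφ

theorem LL_d (a : Kˣ) : LL m φ (dSL a) = hh m φ (φu φ a ^ 3 * a) := by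
  have hφ' : φu φ (φu φ a) ^ 3 = a := Units.ext (hφ a)
  rw [LL_apply, show Matrix.SpecialLinearGroup.map φ (dSL a) = dSL (φu φ a) by
    ext i j; fin_cases i <;> fin_cases j <;> simp, sysSL2_d, sysSL2_d, h_eq_pr m _ 8 1 3, h_eq_pr m _ 10 1 1, ← map_mul,
    pr_mul, hh_apply, map_mul, map_pow, hφ', mul_comm a]
  simp [zpow_ofNat]

theorem hh_sq (b : Kˣ) : hh m φ (b ^ 2) = LL m φ (dSL (φu φ b ^ 3 / b)) := by
  have hφ' : φu φ (φu φ b) ^ 3 = b := Units.ext (hφ b)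
  rw [LL_d m hφ, map_div, map_pow (φu φ), hφ', div_pow, div_mul_div_cancel, pow_succ b 2, mul_div_cancel_right]

variable {σ : G →* G} (h : Tw X φ σ)
include h

omit [CharP K 3] hφ in
theorem Tw.map_h (r : Rt chevG2) (t : K) : σ (X.h r t) = X.h (symG2.ρ r) (φ t ^ twG2.q r) := by
  have : ∀ r : Rt chevG2, twG2.q (ng r) = twG2.q r ∧ Odd (twG2.q r) := by decide
  simp only [Sys.h, Sys.n, map_mul, h _, Sym.ρ_ng, (this r).1, map_neg, (this r).2.neg_pow, map_inv₀, inv_pow, map_one,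
    one_pow]

omit [CharP K 3] hφ in
theorem Tw.exists_hh (C : X.Cover) {z : G} (hz : z ∈ X.H) (e : σ z = z) : ∃ y, z = hh m φ y := by
  obtain ⟨c, rfl⟩ := m.exists_tor hz
  rw [eq_pr c] at e ⊢
  have : σ (m.tor (pr (c s0) (c s1))) = m.tor (pr (φu φ (c s1)) (φu φ (c s0) ^ 3)) := by
    rw [tor_pr, tor_pr, map_mul, h.map_h, h.map_h, m.h_comm _ _ (Units.ne_zero _) (Units.ne_zero _)]
    exact congrArg₂ _ rfl (congrArg _ (pow_one _))
  exact ⟨c s1, by rw [hh_apply, show φu φ (c s1) = c s0 from congrFun (tor_injective m C (this.symm.trans e)) s0]⟩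

theorem Tw.LL (g : SL(2, K)) : σ (LL m φ g) = LL m φ g :=
  LL_mem m φ (M := σ.eqLocus (MonoidHom.id G)) (h.wd hφ) (h.neg.wd hφ) g

omit h in
theorem fix_bruhat (C : X.Cover) (hX : X.U Set.univ = ⊤) {α : X.Aut symG2} (h : Tw X φ α.σ) {g : G} (hg : α.σ g = g) :
    (∃ t u v a, g = wd X φ t u v * hh m φ a) ∨
      ∃ t u v t' u' v' a, g = wd X φ t u v * LL m φ wSL * (wd X φ t' u' v' * hh m φ a) := by
  have hB : ∀ b ∈ X.B, α.σ b = b → ∃ t u v a, b = wd X φ t u v * hh m φ a := fun b hb e => by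
    obtain ⟨u, hu, z, hz, rfl⟩ := Sys.mem_B_iff.1 hb
    obtain ⟨e1, e2⟩ := C.eq_of_UP_H (α.σ_mem_UP hu) hu (α.σ_mem_H hz) hz (by rw [← map_mul, e])
    obtain ⟨t, u, v, rfl⟩ := h.exists_wd C hu e1
    obtain ⟨a, rfl⟩ := h.exists_hh m C hz e2
    exact ⟨_, _, _, _, rfl⟩
  obtain ⟨w, hw⟩ := Sys.exists_cell (hX ▸ mem_top g⁻¹)
  have hg' : α.σ g⁻¹ = g⁻¹ := by rw [map_inv, hg]
  rcases eq_of_mem_W1 (C.cell_unique (hg' ▸ α.cell_σ C hw) hw) with rfl | rfl
  · exact Or.inl (hB g ((inv_mem_iff).1 (C.mem_B_of_cell hw)) hg)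
  have h0 := (mon_w m φ).inv
  rw [w0_inv] at h0
  obtain ⟨b, hb, u, hu, e⟩ := C.exists_canon hw (inv_mem (w_mem_N m φ)) h0
  have e0 : {r : Rt chevG2 | Pos r ∧ ¬ Pos (w0 (D := chevG2) Set.univ • r)} = {r | Pos r} := by
    ext; simp [not_pos_w0_iff]
  obtain ⟨e1, e2⟩ := C.canon_unique h0 (α.σ_mem_B hb) hb (by rw [e0] at hu ⊢; exact α.σ_mem_UP hu) hu
    (by rw [← e, ← hg', e, map_mul, map_mul, map_inv, h.LL m hφ])
  rw [e0] at hu
  obtain ⟨t, u, v, e3⟩ := h.exists_wd C (inv_mem hu) (by rw [map_inv, e2])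
  obtain ⟨t', u', v', a, e4⟩ := hB _ (inv_mem hb) (by rw [map_inv, e1])
  exact Or.inr ⟨t, u, v, t', u', v', a, by rw [← e3, ← e4, ← inv_inv g, e]; group⟩

omit h hφ [CharP K 3] in
theorem seven_UP {ρ : G →* GL (Fin 7) K} (hρ : ∀ r t, (ρ (X.x r t) : Matrix (Fin 7) (Fin 7) K) = seven.y r t) {u : G}
    (hu : u ∈ X.UP) (i j : Fin 7) (hij : j ≤ i) : (ρ u : Matrix (Fin 7) (Fin 7) K) i j = if i = j then 1 else 0 := by
  revert i j
  refine Sys.U_induction (P := fun u => ∀ i j, j ≤ i → (ρ u : Matrix (Fin 7) (Fin 7) K) i j = if i = j then 1 else 0)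
    (fun i j _ => by simp [Matrix.one_apply]) (fun r hr t y _ ih i j hij => ?_) hu
  have h1 : ∀ i j : Fin 7, j ≤ i → seven.y r t i j = if i = j then 1 else 0 := fun i j hij => by
    have := (by decide +kernel : ∀ p : Rt chevG2 × Fin 7 × Fin 7, Pos p.1 → p.2.2 ≤ p.2.1 →
      sp (e1 p.1) p.2.1 p.2.2 = 0 ∧ sp (e2 p.1) p.2.1 p.2.2 = 0) (r, i, j) hr hij
    simp [seven_y, cm_apply, this, Matrix.one_apply]
  rw [map_mul, Units.val_mul, hρ, Matrix.mul_apply, Finset.sum_eq_single j, h1 j j le_rfl, ih i j hij, if_pos rfl, mul_one]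
  · intro k _ hk
    rcases le_total k i with h | h
    · rcases eq_or_ne i k with rfl | h'
      · rw [h1 _ _ hij, if_neg hk, mul_zero]
      · rw [ih _ _ h, if_neg h', zero_mul]
    · rw [h1 _ _ (hij.trans h), if_neg hk, mul_zero]
  · simp

omit h hφ [CharP K 3] in
theorem seven_list {ρ : G →* GL (Fin 7) K} (hρ : ∀ r t, (ρ (X.x r t) : Matrix (Fin 7) (Fin 7) K) = seven.y r t)
    (L : List (Fin 12 × ℤ)) (i j : Fin 7) : (ρ (L.map fun p => X.x (rr p.1) p.2).prod : Matrix (Fin 7) (Fin 7) K) i j =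
      ((L.map fun p => seven.y (rr p.1) p.2).prod i j : ℤ) := by
  have : (ρ (L.map fun p => X.x (rr p.1) p.2).prod : Matrix (Fin 7) (Fin 7) K) =
      (Int.castRingHom K).mapMatrix (L.map fun p => seven.y (rr p.1) p.2).prod := by
    simp only [map_list_prod, List.map_map, Function.comp_def, PreRep.map_y, ← Units.coeHom_apply]
    simp only [Units.coeHom_apply, hρ, eq_intCast]
  rw [this]; rfl

omit h hφ [CharP K 3] in
theorem seven_hh {ρ : G →* GL (Fin 7) K} (hρ : ∀ r t, (ρ (X.x r t) : Matrix (Fin 7) (Fin 7) K) = seven.y r t) (a : Kˣ) :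
    ∃ d, d 0 = φ a ∧ (ρ (hh m φ a) : Matrix (Fin 7) (Fin 7) K) = Matrix.diagonal d := by
  have e : X.map ρ = PreRep.sys seven_isRep K := Sys.ext (funext fun r => funext fun t => Units.ext (hρ r t))
  rw [hh_apply, tor_pr, map_mul, X.map_h, X.map_h, e, Units.val_mul, PreRep.coe_sys_h _ _ (Units.ne_zero _),
    PreRep.coe_sys_h _ _ (Units.ne_zero _), PreRep.hd, PreRep.hd, Matrix.diagonal_mul_diagonal]
  refine ⟨_, ?_, rfl⟩
  rw [show seven.μ (rr 7) 0 = 1 by decide, show seven.μ (rr 6) 0 = 0 by decide]; simp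

omit h in
theorem hh_neg_one_mem (C : X.Cover) (hX : X.U Set.univ = ⊤) {α : X.Aut symG2} (h : Tw X φ α.σ)
    {ρ : G →* GL (Fin 7) K} (hρ : ∀ r t, (ρ (X.x r t) : Matrix (Fin 7) (Fin 7) K) = seven.y r t) {M : Subgroup G}
    (h1 : ∀ t u v, wd X φ t u v ∈ M) (h2 : ∀ t u v, wd (negS X) φ t u v ∈ M) : hh m φ (-1) ∈ M := by
  have e1 := seven_list hρ [(4, -1), (5, -1), (3, -1), (2, -1)] 6 0
  have e2 := seven_list hρ [(8, -1), (3, 1), (8, -1), (10, -1), (1, 1), (10, -1)] 6 0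
  rw [show (List.prod _ : G) = wd (negS X) φ 1 0 0 by simp [wd, P6, negS_x, mul_assoc]; rfl,
    show (List.prod _ : Matrix (Fin 7) (Fin 7) ℤ) 6 0 = -1 by decide +kernel] at e1
  rw [show (List.prod _ : G) = LL m φ wSL by simp [LL_w, Sys.n, mul_assoc]; rfl,
    show (List.prod _ : Matrix (Fin 7) (Fin 7) ℤ) 6 0 = 1 by decide +kernel] at e2
  rcases fix_bruhat m hφ C hX h (h.neg.wd hφ 1 0 0) with ⟨t, u, v, a, e⟩ | ⟨t, u, v, t', u', v', a, e⟩ <;>
    obtain ⟨d, hd, e3⟩ := seven_hh m (φ := φ) hρ a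
  · rw [e, map_mul, Units.val_mul, e3, Matrix.mul_diagonal, seven_UP hρ (wd_mem X φ t u v) _ _ (by decide)] at e1
    simp at e1
  have e4 : ∀ i, (ρ (wd X φ t u v) : Matrix (Fin 7) (Fin 7) K) 6 i = if 6 = i then 1 else 0 := fun i =>
    seven_UP hρ (wd_mem X φ t u v) _ _ (Fin.le_last i)
  have e5 : ∀ i, (ρ (wd X φ t' u' v') : Matrix (Fin 7) (Fin 7) K) i 0 = if i = 0 then 1 else 0 := fun i =>
    seven_UP hρ (wd_mem X φ t' u' v') _ _ (Fin.zero_le i)
  simp only [e, map_mul, Units.val_mul, e3, ← mul_assoc, Matrix.mul_diagonal] at e1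
  simp only [Matrix.mul_apply, e4, e5, ite_mul, mul_ite, one_mul, mul_one, zero_mul, mul_zero, Finset.sum_ite_eq,
    Finset.sum_ite_eq', Finset.mem_univ, if_true, e2, hd] at e1
  obtain rfl : a = -1 := Units.ext (φ.injective (by simpa using e1))
  have := h2 1 0 0
  rwa [e, mul_mem_cancel_left (mul_mem (h1 _ _ _) (LL_mem m φ h1 h2 _)), mul_mem_cancel_left (h1 _ _ _)] at this

omit h hφ in
theorem wd_cube {ρ : G →* GL (Fin 7) K} (hρ : ∀ r t, (ρ (X.x r t) : Matrix (Fin 7) (Fin 7) K) = seven.y r t) {t u v : K} :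
    wd X φ t u v ^ 3 = 1 ↔ t = 0 := by
  refine ⟨fun h => ?_, by rintro rfl; rw [wd, map_zero]; exact P6_cube ..⟩
  have h1 := seven_UP hρ (wd_mem X φ t u v)
  have h2 : ((ρ (wd X φ t u v) : Matrix (Fin 7) (Fin 7) K) ^ 3) 0 3 = 0 := by
    rw [← Units.val_pow_eq_pow_val, ← map_pow, h, map_one]; rfl
  have h3 : (ρ (wd X φ t u v) : Matrix (Fin 7) (Fin 7) K) 0 1 = φ t ∧ (ρ (wd X φ t u v) : Matrix (Fin 7) (Fin 7) K) 1 2 = t ∧
      (ρ (wd X φ t u v) : Matrix (Fin 7) (Fin 7) K) 2 3 = φ t * 2 := by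
    simp only [wd, P6, map_mul, Units.val_mul, hρ, seven_y]
    simp [Matrix.mul_apply, Fin.sum_univ_seven, cm_apply, sp, e1, e2, rr, Matrix.one_apply]
  generalize (ρ (wd X φ t u v) : Matrix (Fin 7) (Fin 7) K) = A at h1 h2 h3
  simp [pow_succ, Matrix.mul_apply, Fin.sum_univ_seven, h1, h3] at h2
  have h4 : φ t ^ 2 * t = 0 := by
    linear_combination -h2 + (A 0 3 + A 0 2 * φ t * 2 + φ t * A 1 3 + φ t ^ 2 * t) * three_eq (K := K)
  simpa using h4

end Cfsg.Agent.Ree
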