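import Cfsg.Agent.Ree.Fix
import Cfsg.Agent.Ree.Main
import Cfsg.Prelude.Def_LieTwisted
/-!
Coordinates `RC` on the Sylow 3-subgroup of a small Ree group, and the instance `exists_RC` for `twistedG2`.
-/

set_option autoImplicit false

namespace Cfsg.Agent.Ree

open Chev Cfsg.Lie Subgroup _root_.Cfsg.Agent.Classical
open scoped MatrixGroups Matrix

/-- A small Ree group with coordinates. -/
structure RC (K G : Type*) [Field K] [Group G] extends RD K G where
  /-- the square root of the Frobenius map -/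
  ψ : K →+* K
  ψ_ψ : ∀ t, ψ (ψ t) = t ^ 3
  /-- the coordinates -/
  w : K → K → K → G
  mem_U : ∀ {g}, g ∈ U ↔ ∃ t u v, g = w t u v
  w_inj : ∀ {t u v t' u' v'}, w t u v = w t' u' v' → t = t' ∧ u = u' ∧ v = v'
  w_mul : ∀ t u v t' u' v', w t u v * w t' u' v' =
    w (t + t') (u + u' - ψ t' * t) (v + v' - ψ t' * t ^ 2 - t' * u + ψ t' * t * t')
  h_w : ∀ (y : Kˣ) t u v, h y * w t u v * (h y)⁻¹ = w (y ^ 2 / ψ y * t) (ψ y / y * u) (y * v)
  L_w : ∀ u, L (uSL u) = w 0 u 0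
  L_d' : ∀ a b : Kˣ, (b : K) = ψ a * a → L (dSL a) = h b
  fld : ∀ f : K →+* K, ∃ α : G →* G, (∀ t u v, α (w t u v) = w (f t) (f u) (f v)) ∧
    (∀ y, α (h y) = h (Units.map (f : K →* K) y)) ∧ α (L wSL) = L wSL

theorem pow_nine {K G ι : Type*} [Field K] [CharP K 3] [Group G] [Fintype ι] [DecidableEq ι] [Nonempty ι]
    (hι : Fintype.card ι ≤ 3 ^ 2) {ρ : G →* GL ι K} (hρ : Function.Injective ρ)
    {g : G} {k : ℕ} (h : g ^ 3 ^ k = 1) : g ^ 9 = 1 := by
  have h1 : IsNilpotent ((ρ g : Matrix ι ι K) - 1) := ⟨3 ^ k, by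
    rw [sub_pow_char_pow_of_commute _ _ (Commute.one_right _), ← Units.val_pow_eq_pow_val, ← map_pow, h]; simp⟩
  have h2 := Matrix.aeval_self_charpoly ((ρ g : Matrix ι ι K) - 1)
  rw [sub_eq_zero.1 (Matrix.isNilpotent_charpoly_sub_pow_of_isNilpotent h1).eq_zero, map_pow, Polynomial.aeval_X] at h2
  have h3 := pow_eq_zero_of_le hι h2
  rw [sub_pow_char_pow_of_commute _ _ (Commute.one_right _), one_pow, sub_eq_zero, ← Units.val_pow_eq_pow_val,
    ← map_pow, Units.val_eq_one] at h3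
  exact hρ (h3.trans (map_one ρ).symm)

/-- Lifting a homomorphism along an injection. -/
noncomputable def liftR {A G Γ : Type*} [Group A] [Group G] [Group Γ] {j : G →* Γ} (hj : Function.Injective j)
    (f : A →* Γ) (h : ∀ a, f a ∈ j.range) : A →* G :=
  (MonoidHom.ofInjective hj).symm.toMonoidHom.comp (f.codRestrict _ h)

theorem liftR_spec {A G Γ : Type*} [Group A] [Group G] [Group Γ] {j : G →* Γ} (hj : Function.Injective j)
    (f : A →* Γ) (h : ∀ a, f a ∈ j.range) (a : A) : j (liftR hj f h a) = f a :=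
  MonoidHom.apply_ofInjective_symm hj ⟨f a, h a⟩

theorem sq_or_of_card {K : Type*} [Field K] [Finite K] {m : ℕ} (hK : Nat.card K = 3 ^ (2 * m + 1)) (a : Kˣ) :
    ∃ b : Kˣ, a = b ^ 2 ∨ a = -1 * b ^ 2 := by
  obtain ⟨k, hk⟩ : ∃ k, 3 ^ (2 * m + 1) = 4 * k + 3 := ⟨3 ^ (2 * m + 1) / 4, by
    have : 3 ^ (2 * m + 1) % 4 = 3 := by rw [pow_succ, pow_mul, Nat.mul_mod, Nat.pow_mod]; simp
    omega⟩
  have h1 : a ^ (4 * k + 2) = 1 := by rw [← pow_card_eq_one' (x := a), Nat.card_units, hK, hk]; rfl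
  refine ⟨a ^ (k + 1), ?_⟩
  have h2 : (a ^ (k + 1)) ^ 2 = a * a ^ (2 * k + 1) := by rw [← pow_mul, ← pow_succ']; congr 1; ring
  rcases (RD.unit_sq_eq_one (a := a ^ (2 * k + 1))).1 (by rw [← pow_mul, ← h1]; congr 1; ring) with h | h <;>
    simp [h2, h]

theorem hh_wd {K G : Type*} [Field K] [Group G] {X : Sys chevG2 K G} (m : X.Mult) {φ : K →+* K}
    (hφ : ∀ t, φ (φ t) ^ 3 = t) (y : Kˣ) (t u v : K) : hh m φ y * wd X φ t u v * (hh m φ y)⁻¹ =
      wd X φ (y ^ 2 / φ y ^ 3 * t) (φ y ^ 3 / y * u) (y * v) := by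
  have h1 : φ y ≠ 0 := by simp
  have h2 := y.ne_zero
  rw [hh_apply, wd, conj_P6, wd, chi_pr _ _ 7 2 (-1), chi_pr _ _ 6 (-3) 2, chi_pr _ _ 8 (-1) 1, chi_pr _ _ 9 1 0,
    chi_pr _ _ 10 3 (-1), chi_pr _ _ 11 0 1]
  simp only [map_mul, map_pow, map_div₀, hφ, Units.val_mul, Units.val_zpow_eq_zpow_val, Units.coe_map, MonoidHom.coe_coe]
  congr 1 <;> field_simp

theorem exists_RC_of {K G Γ : Type*} [Field K] [Finite K] [CharP K 3] [Group G] [Group Γ] {n : ℕ}
    (hK : Nat.card K = 3 ^ (2 * n + 1)) {X : Sys chevG2 K Γ} (m : X.Mult) (C : X.Cover) (hX : X.U Set.univ = ⊤)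
    {φ : K →+* K} (hφ : ∀ t, φ (φ t) ^ 3 = t) {α : X.Aut symG2} (h : Tw X φ α.σ) {ρ : Γ →* GL (Fin 7) K}
    (hρ : ∀ r t, (ρ (X.x r t) : Matrix (Fin 7) (Fin 7) K) = seven.y r t) (hρi : Function.Injective ρ)
    {j : G →* Γ} (hj : Function.Injective j) (h1 : ∀ t u v, wd X φ t u v ∈ j.range)
    (h2 : ∀ t u v, wd (negS X) φ t u v ∈ j.range)
    (h3 : ∀ M : Subgroup Γ, (∀ t u v, wd X φ t u v ∈ M) → (∀ t u v, wd (negS X) φ t u v ∈ M) → j.range ≤ M)
    (h4 : ∀ f : K →+* K, ∃ β : Γ →* Γ, ∀ r t, β (X.x r t) = X.x r (f t)) (h5 : ∀ (f : K →+* K) t, f (φ t) = φ (f t)) :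
    ∃ R : RC K G, R.m = n ∧ R.U = X.UP.comap j ∧ R.H = X.H.comap j ∧ R.B = X.B.comap j := by
  have hfix : ∀ g, α.σ (j g) = j g := fun g =>
    h3 (α.σ.eqLocus (MonoidHom.id Γ)) (h.wd hφ) (h.neg.wd hφ) ⟨g, rfl⟩
  have hL := LL_mem m φ h1 h2
  have hH : ∀ y, hh m φ y ∈ j.range := fun y => by
    obtain ⟨b, rfl | rfl⟩ := sq_or_of_card hK y
    · exact hh_sq m hφ b ▸ hL _
    · rw [map_mul, hh_sq m hφ]; exact mul_mem (hh_neg_one_mem m hφ C hX h hρ h1 h2) (hL _)
  choose w hw using h1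
  have eh := liftR_spec hj _ hH
  have eL := liftR_spec hj _ hL
  generalize liftR hj _ hH = H at eh
  generalize liftR hj _ hL = L at eL
  have hU : ∀ {g}, g ∈ X.UP.comap j ↔ ∃ t u v, g = w t u v := fun {g} => ⟨fun hg => by
    obtain ⟨t, u, v, e⟩ := h.exists_wd C hg (hfix g)
    exact ⟨t, u, v, hj (e.trans (hw t u v).symm)⟩, by rintro ⟨t, u, v, rfl⟩; rw [mem_comap, hw]; exact wd_mem _ _ _ _ _⟩
  have hwU : ∀ t u v, w t u v ∈ X.UP.comap j := fun t u v => hU.2 ⟨t, u, v, rfl⟩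
  have hi : ∀ {t u v t' u' v'}, w t u v = w t' u' v' → t = t' ∧ u = u' ∧ v = v' := fun e => by
    have := congrArg j e
    rw [hw, hw] at this
    obtain ⟨-, h1, -, -, h2⟩ := P6_inj C this
    exact ⟨h1, h2⟩
  have cU : Nat.card (X.UP.comap j) = Nat.card K ^ 3 := by
    rw [← Nat.card_congr (Equiv.ofBijective (fun p : K × K × K => (⟨_, hwU p.1 p.2.1 p.2.2⟩ : X.UP.comap j))
      ⟨fun p p' e => by obtain ⟨h1, h2, h3⟩ := hi (congrArg Subtype.val e); exact Prod.ext h1 (Prod.ext h2 h3),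
        fun g => by obtain ⟨t, u, v, e⟩ := hU.1 g.2; exact ⟨(t, u, v), Subtype.ext e.symm⟩⟩), Nat.card_prod, Nat.card_prod]
    ring
  have ti : ∀ u ∈ X.UP.comap j, j (L wSL * u * (L wSL)⁻¹) ∈ X.B → u = 1 := fun u hu e => by
    rw [map_mul, map_mul, map_inv, eL] at e
    simpa [map_eq_one_iff j hj] using C.eq_one_of_B_UN e (w_conj_mem m φ hu)
  have eu : ∀ t, L (uSL t) = w 0 t 0 := fun t => hj (by rw [eL, hw, LL_u])
  have ed : ∀ a, L (dSL a) = H (φu φ a ^ 3 * a) := fun a => hj (by rw [eL, eh, LL_d m hφ])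
  have hB : ∀ u ∈ X.UP.comap j, ∀ a, j (u * H a) ∈ X.B := fun u hu a => by
    rw [map_mul, eh]; exact mul_mem (X.UP_le_B hu) (X.H_le_B (hh_mem_H m φ _))
  have w0 : w 0 0 0 = 1 := hj (by simp [hw, wd, P6])
  have two : (-1 : Kˣ) ≠ 1 := fun e => by
    have := congrArg Units.val e
    simp only [Units.val_neg, Units.val_one] at this
    exact one_ne_zero (α := K) (by linear_combination three_eq (K := K) + this)
  have hiH : Function.Injective H := fun a b e => hh_injective m φ C (by rw [← eh, ← eh, e])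
  let R : RC K G :=
    { m := n
      hq := hK
      U := X.UP.comap j
      h := H
      L := L
      card_U := cU
      h_inj := hiH
      h_norm := fun a u hu => by
        rw [mem_comap, map_mul, map_mul, map_inv, eh]
        exact Sys.conj_mem_of_norm (X.H_le_normalizer_U _ (hh_mem_H m φ _)) hu
      bruhat := fun g => (fix_bruhat m hφ C hX h (hfix g)).imp
        (fun ⟨t, u, v, a, e⟩ => ⟨_, hwU t u v, a, hj (by rw [e, map_mul, hw, eh])⟩)
        fun ⟨t, u, v, t', u', v', a, e⟩ => ⟨_, hwU t u v, _, hwU t' u' v', a, hj (by simp only [e, map_mul, hw, eh, eL])⟩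
      ti := fun u hu u' hu' a e => ti u hu (e ▸ hB u' hu' a)
      fpf := fun a ha u hu e => by
        obtain ⟨t, u, v, rfl⟩ := hU.1 hu
        obtain ⟨h1, h2⟩ := fix_of_conj m C hφ (y := a) (t := t) (u := u) (v := v) (by rw [← eh, ← hw, ← map_mul, e, map_mul])
        obtain ⟨rfl, rfl⟩ := h1 (by rintro rfl; exact ha (one_pow 2))
        rw [h2 ha, w0]
      cent := fun u hu e => by
        obtain ⟨t, u, v, rfl⟩ := hU.1 hu
        obtain ⟨rfl, rfl⟩ := (fix_of_conj m C hφ (y := -1) (t := t) (u := u) (v := v)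
          (by rw [← eh, ← hw, ← map_mul, e, map_mul])).1 two
        exact ⟨u, (eu u).symm⟩
      L_u := fun t => eu t ▸ hwU _ _ _
      L_d := fun a => ⟨_, ed a⟩
      d_L := fun b => ⟨_, hj (by rw [eh, eL, hh_sq m hφ])⟩
      L_comm := fun g => hj (by rw [map_mul, map_mul, eL, eh, LL_comm])
      L_ker := fun g => by
        have e1 : L (-1) = 1 := by
          rw [← dSL_neg_one, ed, show φu φ (-1) = -1 from Units.ext (by simp), ← map_one H]; congr 1; exact Units.ext (by simp; ring)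
        refine ⟨fun e => ?_, by rintro (rfl | rfl); exacts [map_one _, e1]⟩
        have hg : ∀ g ∈ BSL K, j (L g) ∈ X.B := fun g hg => by
          obtain ⟨a, b, rfl⟩ := exists_eq_of_mem_BSL hg
          rw [map_mul, map_mul, ed, eu, eh]; exact mul_mem (X.H_le_B (hh_mem_H m φ _)) (X.UP_le_B (hwU _ _ _))
        have hc : g.1 1 0 = 0 := by_contra fun hc => by
          have e2 := hg (wSL⁻¹ * uSL (-(g.1 0 0 / g.1 1 0)) * g) (mem_BSL.2 (by
            simp [Matrix.mul_apply, Fin.sum_univ_two, Matrix.SpecialLinearGroup.coe_inv, Matrix.adjugate_fin_two, hc]))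
          rw [map_mul, e, mul_one, map_mul, map_mul, eu, mul_mem_cancel_right (X.UP_le_B (hwU _ _ _)), map_inv, map_inv,
            inv_mem_iff] at e2
          exact one_ne_zero (hi ((ti _ (hwU 0 1 0) (by
            rw [map_mul, map_mul, map_inv]
            exact mul_mem (mul_mem e2 (X.UP_le_B (hwU _ _ _))) (inv_mem e2))).trans w0.symm)).2.1
        obtain ⟨a, b, rfl⟩ := exists_eq_of_mem_BSL (mem_BSL.2 hc)
        rw [map_mul, ed, eu, mul_eq_one_iff_eq_inv] at e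
        have e2 : H (φu φ a ^ 3 * a) = 1 := hj (by
          rw [map_one]; exact C.eq_one_of_UP_H (e ▸ inv_mem (hwU _ _ _) : _ ∈ X.UP.comap j) (eh _ ▸ hh_mem_H m φ _))
        rw [e2, eq_comm, inv_eq_one, ← w0] at e
        rw [(hi e).2.1, uSL_zero, mul_one]
        have e3 := hiH (e2.trans (map_one H).symm)
        have e4 := congrArg (φu φ) e3
        rw [map_mul, map_pow, show φu φ (φu φ a) ^ 3 = a from Units.ext (hφ a), map_one, mul_eq_one_iff_inv_eq] at e4
        rw [← e4, pow_succ, inv_mul_cancel_right, inv_pow, inv_eq_one] at e3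
        rcases RD.unit_sq_eq_one.1 e3 with rfl | rfl
        exacts [Or.inl (map_one (dSLHom K)), Or.inr dSL_neg_one]
      gen := fun M hM1 hM2 => by
        refine eq_top_iff.2 fun g _ => (mem_map_iff_mem hj).1 (h3 (M.map j) (fun t u v => ⟨_, hM1 (hwU t u v), hw _ _ _⟩)
          (fun t u v => ?_) ⟨g, rfl⟩)
        obtain ⟨y, hy⟩ := h2 t u v
        refine ⟨y, ?_, hy⟩
        simpa [mul_assoc] using hM2 ((L wSL)⁻¹ * y * L wSL) (by
          rw [mem_comap, map_mul, map_mul, map_inv, eL, hy]; exact w_conj_mem' m φ (negS_UP X (wd_mem _ _ _ _ _)))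
      pow9 := fun u hu => pow_nine (by simp) (ρ := ρ.comp j) (hρi.comp hj) (k := (2 * n + 1) * 3) (by
        rw [pow_mul, ← hK, ← cU]; exact congrArg Subtype.val (pow_card_eq_one' (x := (⟨u, hu⟩ : X.UP.comap j))))
      cube := by
        rw [sq, ← Nat.card_prod, ← Set.ncard_univ]
        refine (Set.ncard_congr (fun p _ => w 0 p.1 p.2) (fun p _ => And.intro (hwU _ _ _) (hj ?_)) (fun p p' _ _ e => ?_) ?_).symm
        · rw [map_pow, hw, map_one]; exact (wd_cube hρ).2 rfl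
        · exact Prod.ext (hi e).2.1 (hi e).2.2
        · rintro _ ⟨hu, e⟩
          obtain ⟨t, u, v, rfl⟩ := hU.1 hu
          obtain rfl : t = 0 := (wd_cube hρ).1 (by rw [← hw t u v, ← map_pow, e, map_one])
          exact ⟨(u, v), trivial, rfl⟩
      ρ := (Matrix.toLinAlgEquiv' : Matrix (Fin 7) (Fin 7) K ≃ₐ[K] _).toMonoidHom.comp
        ((Units.coeHom _).comp (ρ.comp j))
      ρ_inj := Matrix.toLinAlgEquiv'.injective.comp (Units.val_injective.comp (hρi.comp hj))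
      ψ := (frobenius K 3).comp φ
      ψ_ψ := fun t => by simp [frobenius_def, hφ]
      w := w
      mem_U := hU
      w_inj := hi
      w_mul := fun t u v t' u' v' => hj (by rw [map_mul, hw, hw, hw, wd_mul X hφ]; rfl)
      h_w := fun y t u v => hj (by rw [map_mul, map_mul, map_inv, eh, hw, hw, hh_wd m hφ]; rfl)
      L_w := eu
      L_d' := fun a b e => by rw [ed, show b = φu φ a ^ 3 * a from Units.ext e]
      fld := fun f => by
        obtain ⟨β, hβ⟩ := h4 f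
        have e1 : ∀ t u v, β (wd X φ t u v) = wd X φ (f t) (f u) (f v) := fun t u v => by simp [wd, P6, hβ, h5]
        have e2 : ∀ t u v, β (wd (negS X) φ t u v) = wd (negS X) φ (f t) (f u) (f v) := fun t u v => by
          simp [wd, P6, hβ, h5, negS_x]
        have e3 := liftR_spec hj (β.comp j) fun g => h3 (j.range.comap β)
          (fun t u v => ⟨_, (hw _ _ _).trans (e1 t u v).symm⟩) (fun t u v => by rw [mem_comap, e2]; exact h2 _ _ _) ⟨g, rfl⟩
        refine ⟨_, fun t u v => hj ((e3 _).trans ?_), fun y => hj ((e3 _).trans ?_), hj ((e3 _).trans ?_)⟩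
        · rw [MonoidHom.comp_apply, hw, hw, e1]
        · simp [eh, hh_apply, tor_pr, Sys.h, Sys.n, hβ, h5]
        · simp [eL, LL_w, Sys.n, hβ] }
  refine ⟨R, rfl, rfl, ?_, ?_⟩
  · ext g
    refine ⟨?_, fun hg => ?_⟩
    · rintro ⟨a, rfl⟩; exact (eh a ▸ hh_mem_H m φ _ : j (H a) ∈ X.H)
    · obtain ⟨y, e⟩ := h.exists_hh m C hg (hfix g)
      exact ⟨y, hj ((eh y).trans e.symm)⟩
  · ext g
    refine ⟨?_, fun hg => (R.bruhat g).resolve_right ?_⟩
    · rintro ⟨u, hu, a, rfl⟩; exact hB u hu a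
    · rintro ⟨u, hu, u', hu', a, rfl⟩
      rw [mem_comap, map_mul, mul_mem_cancel_right (hB u' hu' a), map_mul, mul_mem_cancel_left (X.UP_le_B hu)] at hg
      exact one_ne_zero (hi ((ti _ (hwU 0 1 0) (by
        rw [map_mul, map_mul, map_inv]; exact mul_mem (mul_mem hg (X.UP_le_B (hwU _ _ _))) (inv_mem hg))).trans w0.symm)).2.1

theorem exists_RC {K : Type*} [Field K] [Finite K] {m : ℕ} (hK : Nat.card K = 3 ^ (2 * m + 1)) :
    ∃ R : RC K (twistedG2 K (3 ^ m)), R.m = m ∧ R.U = (chevG2.posUnipotent K).subgroupOf _ ∧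
      R.H = (chevG2.diagonalSubgroup K).subgroupOf _ ∧ R.B = (chevG2.borelSubgroup K).subgroupOf _ := by
  have h3 : ((3 : ℕ) : K) = 0 := by
    have := Fintype.ofFinite K
    have h := FiniteField.cast_card_eq_zero K
    rw [← Nat.card_eq_fintype_card, hK] at h
    exact (pow_eq_zero_iff (Nat.succ_ne_zero (2 * m))).1 (by exact_mod_cast h)
  have : CharP K 3 := (CharP.charP_iff_prime_eq_zero Nat.prime_three).2 h3
  let φ := iterateFrobenius K 3 m
  have e : ∀ t, φ t = t ^ 3 ^ m := fun t => rfl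
  have hφ : ∀ t, φ (φ t) ^ 3 = t := fun t => by
    have := Fintype.ofFinite K
    rw [e, e, ← pow_mul, ← pow_mul, ← pow_succ, ← pow_add, show m + (m + 1) = 2 * m + 1 by ring, ← hK,
      Nat.card_eq_fintype_card, FiniteField.pow_card]
  have hs : ∀ (r : Rt chevG2) (u : K), ∃ t, φ t ^ twG2.q r = u := fun r u => by
    rcases (by decide : ∀ r : Rt chevG2, twG2.q r = 1 ∨ twG2.q r = 3) r with h | h <;> rw [h]
    exacts [⟨φ u ^ 3, by rw [pow_one, map_pow, hφ]⟩, ⟨φ u, hφ u⟩]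
  have hw : ∀ t u v, (wd (grS chevG2 K) φ t u v).1 = gword (adS chevG2 K).x (reeWordU (3 ^ m) t u v) ∧
      (wd (negS (grS chevG2 K)) φ t u v).1 = gword (adS chevG2 K).x (reeWordV (3 ^ m) t u v) :=
    fun t u v => by
    simp only [wd, P6, negS_x, e, ← pow_succ, ← pow_mul, mul_comm (3 ^ m) 2, mul_assoc, coe_mul]
    rw [← mul_one ((grS chevG2 K).x (rr 11) v : GL chevG2.Idx K), ← mul_one ((grS chevG2 K).x (ng (rr 11)) _ : GL chevG2.Idx K)]
    exact ⟨rfl, rfl⟩
  have hle : ∀ M : Subgroup (chevG2.group K), (∀ t u v, wd (grS chevG2 K) φ t u v ∈ M) →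
      (∀ t u v, wd (negS (grS chevG2 K)) φ t u v ∈ M) → twistedG2 K (3 ^ m) ≤ M.map (chevG2.group K).subtype :=
    fun M h1 h2 => (closure_le _).2 (by
      rintro g ⟨_, ⟨t, u, v, rfl | rfl⟩, hg⟩ <;> rw [coe_eq_gword.1 hg]
      exacts [⟨_, h1 t u v, (hw t u v).1⟩, ⟨_, h2 t u v, (hw t u v).2⟩])
  have hl := (hle ⊤ (fun _ _ _ => trivial) fun _ _ _ => trivial).trans (map_subtype_le _)
  obtain ⟨R, h1, h2, h3, h4⟩ := exists_RC_of hK (grS_mult _ K) (grCover _ K) (grS_U_univ _ K) hφ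
    (α := twG2_ok.autGr symG2 symG2_ρ h3 φ hs) (fun r t => (twG2_ok.autGr_x symG2 symG2_ρ h3 φ hs r t).trans (by
      congr 1; exact (congrArg (· * _) Int.cast_one).trans (one_mul _)))
    rho7_x (rho7_injective ⟨-1, by simp, fun h => one_ne_zero (α := K) (by linear_combination three_eq (K := K) + h)⟩)
    (inclusion_injective hl)
    (fun t u v => ⟨⟨_, subset_closure ⟨_, ⟨t, u, v, Or.inl rfl⟩, coe_eq_gword.2 rfl⟩⟩, Subtype.ext (hw t u v).1.symm⟩)
    (fun t u v => ⟨⟨_, subset_closure ⟨_, ⟨t, u, v, Or.inr rfl⟩, coe_eq_gword.2 rfl⟩⟩, Subtype.ext (hw t u v).2.symm⟩)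
    (fun M h1 h2 => by
      rintro _ ⟨g, rfl⟩
      exact (mem_map_iff_mem (subtype_injective _)).1 (hle M h1 h2 g.2))
    (fun f => by
      have hf := f.injective.surjective_of_finite (Equiv.refl K)
      obtain ⟨β, hβ⟩ := (TwD.one_ok chevG2).exists_gr (Sym.one _) (fun _ => rfl) Nat.cast_zero f fun _ u =>
        (hf u).imp fun _ h => (pow_one _).trans h
      exact ⟨β, fun r t => (hβ r t).trans (by
        change (grS chevG2 K).x r (((1 : ℤ) : K) * f t ^ 1) = _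
        simp)⟩)
    fun f t => by rw [e, e, map_pow]
  refine ⟨R, h1, h2.trans ?_, h3.trans ?_, h4.trans ?_⟩
  · rw [posUnipotent_eq, grS, Sys.UP, Sys.res_U]; rfl
  · rw [grS_H]; rfl
  · rw [grS_B]; rfl

end Cfsg.Agent.Ree
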