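import Cfsg.Agent.Chev.Zker
import Cfsg.Agent.Chev.Simple
import Cfsg.Agent.Chev.AllC
/-!
The 7-dimensional representation `seven` of type `G₂` and the faithful representation `rho7` of the Chevalley group.
-/

set_option autoImplicit false

namespace Cfsg.Agent.Ree

open Chev Cfsg.Lie Matrix

/-- A matrix from a list of entries. -/
def sp (L : List (ℕ × ℕ × ℤ)) : Matrix (Fin 7) (Fin 7) ℤ :=
  Matrix.of fun i j => (L.map fun c => if c.1 = i.val ∧ c.2.1 = j.val then c.2.2 else 0).sum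

/-- The root vectors. -/
def e1 (r : ℕ) : List (ℕ × ℕ × ℤ) := [[(5, 0, -1), (6, 1, -1)], [(4, 0, 1), (6, 2, -1)],
  [(3, 0, -1), (4, 1, 1), (5, 2, 1), (6, 3, -2)], [(2, 0, -1), (3, 1, 1), (5, 3, -2), (6, 4, 1)],
  [(1, 0, 1), (3, 2, 1), (4, 3, 2), (6, 5, 1)], [(2, 1, 1), (5, 4, 1)], [(1, 2, 1), (4, 5, 1)],
  [(0, 1, 1), (2, 3, 2), (3, 4, 1), (5, 6, 1)], [(0, 2, -1), (1, 3, 2), (3, 5, -1), (4, 6, 1)],
  [(0, 3, -2), (1, 4, 1), (2, 5, 1), (3, 6, -1)], [(0, 4, 1), (2, 6, -1)], [(0, 5, -1), (1, 6, -1)]].getD r []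

/-- The second divided powers. -/
def e2 (r : ℕ) : List (ℕ × ℕ × ℤ) :=
  [[], [], [(6, 0, 1)], [(5, 1, -1)], [(4, 2, 1)], [], [], [(2, 4, 1)], [(1, 5, -1)], [(0, 6, 1)]].getD r []

theorem seven_aux : ∀ r : Rt chevG2, sp (e1 r) * sp (e1 r) = (2 : ℤ) • sp (e2 r) ∧ sp (e2 r) * sp (e1 r) = 0 := by
  decide +kernel

/-- The weights. -/
def wt7 (v : Fin 7) (i : Sm chevG2) : ℤ :=
  ([[1, 0], [-1, 1], [2, -1], [0, 0], [-2, 1], [1, -1], [-1, 0]].getD v []).getD i 0

theorem seven_wt : ∀ r : Rt chevG2, (Matrix.of fun a b => sp (e1 r) a b = 0 ∨ wt7 a = wt7 b + fun i => car i r : Matrix _ _ Bool) =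
    Matrix.of fun _ _ => true := by
  decide +kernel

/-- The integral 7-dimensional module. -/
def seven : PreRep chevG2 (Fin 7) where
  E r k := match k with | 0 => 1 | 1 => sp (e1 r) | 2 => sp (e2 r) | _ + 3 => 0
  m := 3
  wt := wt7
  E_zero _ := rfl
  E_succ r k := match k with
    | 0 => by simp
    | 1 => (seven_aux r).1
    | 2 => by simp [(seven_aux r).2]
    | _ + 3 => by simp
  E_bound _ := rfl
  E_wt r a b h := (of_decide_eq_true (congrFun (congrFun (seven_wt r) a) b)).resolve_left h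

theorem seven_aux' : ∀ r s : Rt chevG2, sp (e1 r) * sp (e1 s) - sp (e1 s) * sp (e1 r) = N r s • sp (e1 (addN chevG2 r s)) +
    if s = ng r then diagonal fun v => ∑ i, cov r i * wt7 v i else 0 := by
  decide +kernel

theorem seven_isRep : seven.IsRep := fun r s => by
  rw [Ecol_one_inr, map_add, map_smul, PreRep.ρL_ev, cm_int, apply_ite (seven.ρL ℤ), PreRep.ρL_hv, map_zero]
  exact seven_aux' r s

theorem seven_y {A : Type*} [CommRing A] (r : Rt chevG2) (t : A) :
    seven.y r t = 1 + t • cm A (sp (e1 r)) + t ^ 2 • cm A (sp (e2 r)) := by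
  simp [PreRep.y, seven, Finset.sum_range_succ]

variable (K : Type*) [Field K]

theorem grS_lift_bijective : Function.Bijective (grS_mult chevG2 K).lift := by
  refine ⟨(injective_iff_map_eq_one _).2 fun y hy => ?_,
    Sys.surjective_of_map (X := stS chevG2 K) (grS_U_univ _ K) (grS_mult chevG2 K).lift_stGen⟩
  have e := Sys.hom_ext (f := (chevG2.group K).subtype.comp (grS_mult chevG2 K).lift) (f' := (adS_mult chevG2 K).lift)
    (stS_U_univ _ K) fun r t => (congrArg Subtype.val ((grS_mult chevG2 K).lift_stGen r t)).trans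
      ((adS_mult chevG2 K).lift_stGen r t).symm
  have h := ((stCover chevG2 K).mem_center_iff (stS_U_univ _ K) (y := y)).2 (by
    change (adS_mult chevG2 K).lift y = 1
    rw [← e, MonoidHom.comp_apply, hy, map_one])
  rwa [(stS_mult chevG2 K).center_eq (stCover chevG2 K) (stS_U_univ _ K), zkerG2_eq_bot, Subgroup.map_bot,
    Subgroup.mem_bot] at h

/-- The 7-dimensional representation of `G₂(K)`. -/
noncomputable def rho7 : chevG2.group K →* GL (Fin 7) K :=
  (PreRep.sys_mult (F := K) seven_isRep).lift.comp (MulEquiv.ofBijective _ (grS_lift_bijective K)).symm.toMonoidHom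

variable {K}

theorem rho7_x (r : Rt chevG2) (t : K) : (rho7 K ((grS chevG2 K).x r t) : Matrix (Fin 7) (Fin 7) K) = seven.y r t := by
  rw [← (grS_mult chevG2 K).lift_stGen]
  change ((PreRep.sys_mult (F := K) seven_isRep).lift ((MulEquiv.ofBijective _ (grS_lift_bijective K)).symm
    (MulEquiv.ofBijective _ (grS_lift_bijective K) (chevG2.stGen K r t))) : Matrix (Fin 7) (Fin 7) K) = _
  rw [MulEquiv.symm_apply_apply, Sys.Mult.lift_stGen, PreRep.coe_sys_x]

theorem rho7_injective (h : ∃ a : K, a ≠ 0 ∧ a ≠ 1) : Function.Injective (rho7 K) := by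
  have := (simple_group chevG2 K (Or.inl h)).1
  refine (MonoidHom.ker_eq_bot_iff _).1 ((rho7 K).normal_ker.eq_bot_or_eq_top.resolve_right fun e => ?_)
  have h1 : rho7 K ((grS chevG2 K).x ⟨6, by decide⟩ 1) = 1 := (e ▸ Subgroup.mem_top _ : _ ∈ (rho7 K).ker)
  have h2 := rho7_x (K := K) ⟨6, by decide⟩ 1
  rw [h1, seven_y] at h2
  simpa [cm_apply, sp, e1, e2, Matrix.one_apply] using congrFun (congrFun h2 1) 2

end Cfsg.Agent.Ree
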