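import Cfsg.Agent.Chev.SymG2
import Cfsg.Agent.Ree.Seven
import Cfsg.Agent.Ree.SL2Pres
/-!
Computations in a Steinberg system of type `G₂` in characteristic 3: coordinates `P6` on `U`, the words `wd`, the
endomorphisms `Tw` induced by the exceptional isogeny and their fixed points in `U`.
-/

set_option autoImplicit false

namespace Cfsg.Agent.Ree

open Chev Cfsg.Lie

/-- The roots of `G₂` by number. -/
def rr (n : Fin 12) : Rt chevG2 := n

variable {K G : Type*} [Field K] [Group G] (X : Sys chevG2 K G)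

/-- The coordinates on `U`. -/
def P6 (a b c d e f : K) : G :=
  X.x (rr 7) a * X.x (rr 6) b * X.x (rr 8) c * X.x (rr 9) d * X.x (rr 10) e * X.x (rr 11) f

theorem pos_rr : ∀ n : Fin 12, Pos (rr n) ↔ 6 ≤ n := by decide +kernel

theorem x_mem_UP (n : Fin 12) (t : K) (h : 6 ≤ n := by decide) : X.x (rr n) t ∈ X.UP := X.x_mem_U ((pos_rr n).2 h) t

theorem P6_mem (a b c d e f : K) : P6 X a b c d e f ∈ X.UP :=
  mul_mem (mul_mem (mul_mem (mul_mem (mul_mem (x_mem_UP X _ _) (x_mem_UP X _ _)) (x_mem_UP X _ _)) (x_mem_UP X _ _))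
    (x_mem_UP X _ _)) (x_mem_UP X _ _)

/-- The list of positive roots. -/
def posL : List (Rt chevG2) := [rr 7, rr 6, rr 8, rr 9, rr 10, rr 11]

theorem mem_posL : ∀ k, k ∈ posL ↔ Pos k := by decide +kernel

theorem prod_posL (t : Rt chevG2 → K) :
    X.prod posL t = P6 X (t (rr 7)) (t (rr 6)) (t (rr 8)) (t (rr 9)) (t (rr 10)) (t (rr 11)) := by
  simp [Sys.prod, posL, P6, mul_assoc]

variable {X} in
theorem exists_P6 {y : G} (hy : y ∈ X.UP) : ∃ a b c d e f, y = P6 X a b c d e f := by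
  obtain ⟨t, rfl⟩ := Sys.exists_prod nilp_Pos mem_posL (by decide) hy
  exact ⟨_, _, _, _, _, _, prod_posL X t⟩

variable {X} in
theorem P6_inj (C : X.Cover) {a b c d e f a' b' c' d' e' f' : K} (h : P6 X a b c d e f = P6 X a' b' c' d' e' f') :
    a = a' ∧ b = b' ∧ c = c' ∧ d = d' ∧ e = e' ∧ f = f' := by
  have := C.prod_inj nilp_Pos (fun k => (mem_posL k).1) (by decide)
    (t := fun k => [0, 0, 0, 0, 0, 0, b, a, c, d, e, f].getD k 0)
    (t' := fun k => [0, 0, 0, 0, 0, 0, b', a', c', d', e', f'].getD k 0) (by rw [prod_posL, prod_posL]; exact h)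
  exact ⟨this (rr 7) (by decide), this (rr 6) (by decide), this (rr 8) (by decide), this (rr 9) (by decide),
    this (rr 10) (by decide), this (rr 11) (by decide)⟩

theorem conj_P6 (m : X.Mult) (z : Sm chevG2 → Kˣ) (a b c d e f : K) : m.tor z * P6 X a b c d e f * (m.tor z)⁻¹ =
    P6 X (chi z (rr 7) * a) (chi z (rr 6) * b) (chi z (rr 8) * c) (chi z (rr 9) * d) (chi z (rr 10) * e)
      (chi z (rr 11) * f) := by
  simp only [P6, ← m.tor_conj, conj_mul]

/-- The data of the automorphism `x_r(t) ↦ x_{-r}(-t)`. -/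
def negD : TwD := ⟨0, chevG2.neg, fun _ => -1, fun _ => 1⟩

theorem negD_ok : negD.Ok chevG2 chevG2 := TwD.ok_of_chkAll (by decide +kernel) (by decide +kernel)

/-- The system `x_{-r}(-t)`. -/
def negS : Sys chevG2 K G := negD_ok.pull Nat.cast_zero (RingHom.id K) X

theorem negS_x (r : Rt chevG2) (t : K) : (negS X).x r t = X.x (ng r) (-t) := by
  change X.x (ng r) (((-1 : ℤ) : K) * t ^ 1) = _
  simp

theorem negS_UP : (negS X).UP ≤ X.UN := Sys.U_le.2 fun r hr t => by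
  rw [negS_x]; exact X.x_mem_U (Pos.not_ng hr) _

variable [CharP K 3]

theorem three_eq : (3 : K) = 0 := by exact_mod_cast CharP.cast_eq_zero K 3

theorem comm3 (r s : Fin 12) (t u : K)
    (h : s ≠ r ∧ s.val ≠ chevG2.neg r ∧ nrm 3 (chevG2.commTerms r s) = [] := by decide +kernel) :
    Commute (X.x (rr r) t) (X.x (rr s) u) := by
  have := X.comm (rr r) (rr s) h.1 (fun e => h.2.1 (congrArg Fin.val e)) t u
  rw [show commW chevG2 (rr r) (rr s) t u = evT (-t) u (chevG2.commTerms r s) from rfl,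
    ← gword_nrm X (CharP.cast_eq_zero K 3), h.2.2] at this
  exact (this.trans (mul_one _)).symm

omit [CharP K 3] in
theorem comm_ba (s t : K) : X.x (rr 6) t * X.x (rr 7) s =
    P6 X s t (s * t) (s ^ 2 * t) (-(s ^ 3 * t)) (-(s ^ 3 * t ^ 2)) := by
  rw [X.comm (rr 7) (rr 6) (by decide) (by decide), commW, show chevG2.commTerms (rr 7) (rr 6) =
    [(8, -1, 1, 1), (9, 1, 2, 1), (10, 1, 3, 1), (11, 1, 3, 2)] by decide +kernel]
  change _ * (X.x (rr 8) _ * (X.x (rr 9) _ * (X.x (rr 10) _ * (X.x (rr 11) _ * 1)))) = _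
  simp only [P6, mul_assoc, mul_one]
  congr 3
  · ring
  congr 2
  · ring
  congr 2
  · ring
  · congr 1; ring

theorem P6_mul (a b c d e f c' d' e' f' : K) :
    P6 X a b c d e f * P6 X 0 0 c' d' e' f' = P6 X a b (c + c') (d + d') (e + e') (f + f') := by
  simp only [P6, X.add, X.x_zero, one_mul, mul_assoc]
  rw [(comm3 X 11 8 f c').left_comm, (comm3 X 10 8 e c').left_comm, (comm3 X 9 8 d c').left_comm,
    (comm3 X 11 9 f d').left_comm, (comm3 X 10 9 e d').left_comm, (comm3 X 11 10 f e').left_comm]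

theorem P6_mul' (a b c d e f a' b' c' d' e' f' : K) : P6 X a b c d e f * P6 X a' b' c' d' e' f' =
    P6 X (a + a') (b + b') (c + a' * b + c') (d + a' ^ 2 * b + 2 * a' * c + d') (e - a' ^ 3 * b + e')
      (f - a' ^ 3 * b ^ 2 - b' * (e - a' ^ 3 * b) + f') := by
  have h1 : ∀ t u, X.x (rr 8) u * X.x (rr 7) t = X.x (rr 7) t * (X.x (rr 8) u * X.x (rr 9) (2 * t * u)) := fun t u => by
    rw [X.comm (rr 7) (rr 8) (by decide) (by decide), show commW chevG2 (rr 7) (rr 8) t u =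
      evT (-t) u (chevG2.commTerms 7 8) from rfl, ← gword_nrm X (CharP.cast_eq_zero K 3),
      show nrm 3 (chevG2.commTerms 7 8) = [(9, 1, 1, 1)] by decide +kernel, mul_assoc]
    change _ * (_ * (X.x (rr 9) _ * 1)) = _
    rw [mul_one]; congr 3; linear_combination -t * u * three_eq (K := K)
  have h2 : ∀ t u, X.x (rr 10) u * X.x (rr 6) t = X.x (rr 6) t * (X.x (rr 10) u * X.x (rr 11) (-(t * u))) := fun t u => by
    rw [X.comm (rr 6) (rr 10) (by decide) (by decide), commW,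
      show chevG2.commTerms (rr 6) (rr 10) = [(11, 1, 1, 1)] by decide +kernel, mul_assoc]
    change _ * (_ * (X.x (rr 11) _ * 1)) = _
    rw [mul_one]; congr 3; ring
  have h3 : P6 X a b c d e f * X.x (rr 7) a' = X.x (rr 7) a * (X.x (rr 6) b * X.x (rr 7) a') *
      P6 X 0 0 c (2 * a' * c + d) e f := by
    simp only [P6, X.x_zero, one_mul, mul_assoc, X.add]
    rw [(comm3 X 11 7 _ _).eq, (comm3 X 10 7 _ _).left_comm, (comm3 X 9 7 _ _).left_comm, ← mul_assoc (X.x (rr 8) c), h1]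
    simp only [mul_assoc]
  have h4 : ∀ a b c d e f, P6 X a b c d e f * X.x (rr 6) b' = P6 X a (b + b') c d e (-(b' * e) + f) := fun a b c d e f => by
    simp only [P6, mul_assoc, X.add]
    rw [(comm3 X 11 6 _ _).eq, ← mul_assoc (X.x (rr 10) e), h2, mul_assoc, (comm3 X 9 6 _ _).left_comm,
      (comm3 X 8 6 _ _).left_comm, mul_assoc]
  have h5 : ∀ a' b c d e f, X.x (rr 7) a * P6 X a' b c d e f = P6 X (a + a') b c d e f := fun a' b c d e f => by
    simp only [P6, mul_assoc, X.add]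
  have h6 : P6 X a' b' c' d' e' f' = X.x (rr 7) a' * X.x (rr 6) b' * P6 X 0 0 c' d' e' f' := by simp [P6, mul_assoc]
  rw [h6, ← mul_assoc, ← mul_assoc, h3, comm_ba, h5, P6_mul, h4, P6_mul]
  congr 1 <;> ring

theorem P6_cube (c d e f : K) : P6 X 0 0 c d e f ^ 3 = 1 := by
  have h : ∀ t : K, t + t + t = 0 := fun t => by linear_combination t * three_eq (K := K)
  rw [pow_succ, sq, P6_mul, P6_mul, h, h, h, h]; simp [P6]

variable (φ : K →+* K)

/-- The generating words of the Ree group. -/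
def wd (t u v : K) : G := P6 X (φ t) t (φ t * t + φ u) (φ t ^ 2 * t + φ v) u v

omit [CharP K 3] in
theorem wd_mem (t u v : K) : wd X φ t u v ∈ X.UP := P6_mem X _ _ _ _ _ _

variable {φ} in
theorem wd_mul (hφ : ∀ t, φ (φ t) ^ 3 = t) (t u v t' u' v' : K) : wd X φ t u v * wd X φ t' u' v' =
    wd X φ (t + t') (u + u' - φ t' ^ 3 * t) (v + v' - φ t' ^ 3 * t ^ 2 - t' * u + φ t' ^ 3 * t * t') := by
  rw [wd, wd, P6_mul', wd]
  simp only [map_add, map_sub, map_mul, map_pow, hφ]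
  congr 1
  · ring
  · linear_combination (φ t' * φ u - t' * φ t * φ t') * three_eq (K := K)
  · ring
  · ring

/-- Endomorphisms induced by the exceptional isogeny. -/
def Tw (f : G →* G) : Prop := ∀ r t, f (X.x r t) = X.x (symG2.ρ r) (φ t ^ twG2.q r)

variable {X φ} {σ : G →* G} (h : Tw X φ σ)
include h

omit [CharP K 3] in
theorem Tw.x (r s : Fin 12) (k : ℕ) (t : K) (e : twG2.ι r = s ∧ twG2.q r = k := by decide) :
    σ (X.x (rr r) t) = X.x (rr s) (φ t ^ k) := by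
  rw [h, ← e.2, show symG2.ρ (rr r) = rr s from Fin.ext e.1]; rfl

omit [CharP K 3] in
theorem Tw.neg : Tw (negS X) φ σ := fun r t => by
  have : ∀ r : Rt chevG2, twG2.q (ng r) = twG2.q r ∧ Odd (twG2.q r) := by decide
  rw [negS_x, negS_x, h, Sym.ρ_ng, (this r).1, map_neg, (this r).2.neg_pow]

theorem Tw.P6 (a b c d e f : K) : σ (P6 X a b c d e f) = P6 X (φ b) (φ a ^ 3) (φ b * φ a ^ 3 + φ e)
    (φ b ^ 2 * φ a ^ 3 + φ f) (-(φ b ^ 3 * φ a ^ 3) + φ c ^ 3) (-(φ b ^ 3 * (φ a ^ 3) ^ 2) + φ d ^ 3) := by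
  rw [← P6_mul, ← comm_ba, Ree.P6, Ree.P6]
  simp only [map_mul, h.x 7 6 3, h.x 6 7 1, h.x 8 10 3, h.x 9 11 3, h.x 10 8 1, h.x 11 9 1, pow_one, X.x_zero, one_mul,
    mul_assoc]
  rw [(comm3 X 11 8 _ _).left_comm, (comm3 X 10 8 _ _).left_comm, (comm3 X 11 9 _ _).eq, (comm3 X 10 9 _ _).left_comm]

theorem Tw.wd (hφ : ∀ t, φ (φ t) ^ 3 = t) (t u v : K) : σ (wd X φ t u v) = wd X φ t u v := by
  rw [Ree.wd, h.P6]
  simp only [map_add, map_mul, map_pow, add_pow_char, mul_pow, hφ, ← pow_mul (φ (φ t)) 2, mul_comm 2 3, pow_mul]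
  congr 1 <;> ring

theorem Tw.exists_wd (C : X.Cover) {y : G} (hy : y ∈ X.UP) (e : σ y = y) : ∃ t u v, y = Ree.wd X φ t u v := by
  obtain ⟨a, b, c, d, u, v, rfl⟩ := exists_P6 hy
  rw [h.P6] at e
  obtain ⟨h1, h2, h3, h4, -⟩ := P6_inj C e
  rw [h2] at h3 h4
  exact ⟨b, u, v, by rw [Ree.wd, h3, h4, h1]⟩

end Cfsg.Agent.Ree
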